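import Groth.Agent.MorLib.QFSplit

/-! Étale neighbourhoods splitting off quasi-finite points, without separatedness. -/

set_option autoImplicit false
universe u

namespace Groth.Agent.MorLib.WT

open AlgebraicGeometry CategoryTheory Limits Filter Topology
open Groth.Agent.MorLib.GF (pt pt_comp)

variable {X S T V : Scheme.{u}} {Ω : Type u} [Field Ω] [IsAlgClosed Ω]

set_option backward.isDefEq.respectTransparency.types false in
theorem IsPiece.finite_residueField {π : T ⟶ V} [LocallyOfFiniteType π]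
    {vb : Spec (CommRingCat.of Ω) ⟶ V} {W : T.Opens} {δ : Spec (CommRingCat.of Ω) ⟶ T}
    (hp : IsPiece π vb W δ) :
    letI := (π.residueFieldMap (pt δ)).hom.toAlgebra
    Module.Finite (V.residueField (π (pt δ))) (T.residueField (pt δ)) := by
  haveI := hp.finite
  exact GF.finite_residueFieldMap' π _ (quasiFiniteAt_of_mem π W hp.mem)

set_option backward.isDefEq.respectTransparency.types false in
/-- Splitting off quasi-finite points over an étale neighbourhood. -/
theorem exists_split_open (f : X ⟶ S) [LocallyOfFiniteType f] (s : S)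
    {ι : Type} [Finite ι] (x : ι → ↑X) (hinj : Function.Injective x) (hs : ∀ i, f (x i) = s)
    (hx : ∀ i, f.QuasiFiniteAt (x i)) :
    ∃ (U : Scheme.{u}) (g : U ⟶ S) (u : U), Etale g ∧ g u = s ∧
      ∃ (J : ι → Type) (_ : ∀ i, Finite (J i)) (V : ∀ i, J i → (pullback f g).Opens) (v : ∀ i, J i → ↑(pullback f g)),
        (∀ i j, v i j ∈ V i j ∧ IsFinite ((V i j).ι ≫ pullback.snd f g) ∧ pullback.snd f g (v i j) = u ∧
          (∀ w : ↑(pullback f g), w ∈ V i j → pullback.snd f g w = u → w = v i j) ∧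
          (letI := ((pullback.snd f g).residueFieldMap (v i j)).hom.toAlgebra
           Module.Finite ↑(U.residueField (pullback.snd f g (v i j))) ↑((pullback f g).residueField (v i j)) ∧
           IsPurelyInseparable ↑(U.residueField (pullback.snd f g (v i j))) ↑((pullback f g).residueField (v i j))) ∧
          pullback.fst f g (v i j) = x i) ∧
        (∀ i j i' j', v i j = v i' j' → i = i' ∧ HEq j j') ∧
        (∀ (w : ↑(pullback f g)) (i : ι), pullback.snd f g w = u → pullback.fst f g w = x i → ∃ j, w = v i j) := by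
  classical
  obtain ⟨Ω, _, _, sb, rfl⟩ := GF.exists_geomPoint s
  let L := fun i => {δ : Spec (CommRingCat.of Ω) ⟶ X // δ ≫ f = sb ∧ pt δ = x i}
  haveI : ∀ i, Finite (L i) := fun i => (GF.lifts_at' f sb (x i) (hs i) (hx i)).1
  let J := fun i => Fin (Nat.card (L i))
  let e := fun i => (Finite.equivFin (L i)).symm
  let Idx : Type u := ULift.{u} (Σ i, J i)
  let γ : Idx → Lifts f sb := fun a => ⟨(e a.down.1 a.down.2).1, (e a.down.1 a.down.2).2.1⟩
  have hγx : ∀ a : Idx, pt (γ a).1 = x a.down.1 := fun a => (e a.down.1 a.down.2).2.2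
  have hγinj : Function.Injective γ := by
    rintro ⟨⟨i, j⟩⟩ ⟨⟨i', j'⟩⟩ h
    have h' : (e i j).1 = (e i' j').1 := congrArg Subtype.val h
    obtain rfl : i = i' := hinj ((e i j).2.2.symm.trans ((congrArg pt h').trans (e i' j').2.2))
    rw [(e i).injective (Subtype.ext h')]
  obtain ⟨T, V₁, k, π, h, vb, W, δ, hc, he, rfl, hp⟩ := exists_decomp' f sb γ fun a => by
    rw [hγx]; exact hx _
  haveI := he
  let π' := pullback.snd f h
  let k' := pullback.fst f h
  let m : pullback f h ⟶ T := hc.lift k' π' pullback.condition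
  have hm : IsPullback m π' π (𝟙 V₁) :=
    IsPullback.of_right (by
      rw [IsPullback.lift_fst, Category.id_comp]
      exact IsPullback.of_hasPullback f h) (by rw [IsPullback.lift_snd, Category.comp_id]) hc
  have hp' := fun a => (hp a).1.baseChange hm vb (Category.comp_id _)
  let d := fun a => hm.lift (δ a) vb (by rw [(hp a).1.over, Category.comp_id])
  have hkd : ∀ a, d a ≫ k' = (γ a).1 := fun a => by
    rw [show k' = m ≫ k from (hc.lift_fst ..).symm, ← Category.assoc,
      show d a ≫ m = δ a from hm.lift_fst .., (hp a).2]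
  refine ⟨V₁, h, pt vb, he, (pt_comp _ _).symm, J, fun i => inferInstance,
    fun i j => m ⁻¹ᵁ W ⟨⟨i, j⟩⟩, fun i j => pt (d ⟨⟨i, j⟩⟩), ?_, ?_, ?_⟩
  · intro i j
    have h1 := hp' ⟨⟨i, j⟩⟩
    refine ⟨h1.mem, h1.finite, (pt_comp _ _).symm.trans (congrArg pt h1.over), fun w hw hwu => h1.eq_of_over' hw hwu,
      ⟨h1.finite_residueField, h1.isPurelyInseparable⟩, ?_⟩
    rw [← pt_comp, hkd]
    exact hγx _
  · intro i j i' j' hv
    have hd : d ⟨⟨i', j'⟩⟩ = d ⟨⟨i, j⟩⟩ := (hp' ⟨⟨i, j⟩⟩).uniq _ (hm.lift_snd ..) (by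
      show pt (d ⟨⟨i', j'⟩⟩) ∈ m ⁻¹ᵁ W ⟨⟨i, j⟩⟩
      rw [← show pt (d ⟨⟨i, j⟩⟩) = pt (d ⟨⟨i', j'⟩⟩) from hv]
      exact (hp' ⟨⟨i, j⟩⟩).mem)
    have := congrArg ULift.down (hγinj (Subtype.ext ((hkd ⟨⟨i', j'⟩⟩).symm.trans
      ((congrArg (· ≫ k') hd).trans (hkd ⟨⟨i, j⟩⟩)))))
    obtain ⟨rfl, h2⟩ := Sigma.mk.inj_iff.mp this
    exact ⟨rfl, h2.symm⟩
  · intro w i hwu hwx
    let X₀ := f.quasiFiniteLocus
    haveI : LocallyQuasiFinite (X₀.ι ≫ f) := by
      rw [← Scheme.Hom.quasiFiniteLocus_eq_top_iff, Scheme.Hom.quasiFiniteLocus_comp]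
      exact Scheme.Opens.ι_preimage_self X₀
    haveI : LocallyQuasiFinite ((k' ⁻¹ᵁ X₀).ι ≫ π') :=
      MorphismProperty.of_isPullback
        ((isPullback_morphismRestrict k' X₀).paste_vert (IsPullback.of_hasPullback f h)) inferInstance
    have hw : w ∈ k' ⁻¹ᵁ X₀ := by
      show k' w ∈ X₀
      rw [hwx]; exact hx i
    obtain ⟨dw, hdw, rfl⟩ := GF.exists_lift' π' vb w hwu (quasiFiniteAt_of_mem π' _ hw)
    let l : L i := ⟨dw ≫ k', by
      rw [Category.assoc, pullback.condition, reassoc_of% hdw], by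
      rw [pt_comp]; exact hwx⟩
    refine ⟨(e i).symm l, ?_⟩
    have hd : dw = d ⟨⟨i, (e i).symm l⟩⟩ := (IsPullback.of_hasPullback f h).hom_ext
      ((congrArg Subtype.val ((e i).apply_symm_apply l)).symm.trans (hkd ⟨⟨i, (e i).symm l⟩⟩).symm)
      (hdw.trans (hm.lift_snd ..).symm)
    rw [hd]

end Groth.Agent.MorLib.WT
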